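import Cfsg.Agent.H125.Hall.Defs
import Cfsg.Agent.StdRank2.SwapSign

/-!
# TEAM HALLPRO, T4 (helper273): a tightly embedded quaternion group centralises a Sylow 2-subgroup of a component
-/

set_option autoImplicit false

namespace Cfsg.Agent.H273.Hall

open Subgroup Cfsg.Agent.Cit Cfsg.Agent.H125.Hall

variable {A : Type*} [Group A] [Finite A] {t : A} {Q K : Subgroup A} {L : Subgroup A}

/-- T4 -/
theorem TQ.comm_sylow (h : TQ t Q K) (hL : Cfsg.IsComponent L) (hQL : ∀ a ∈ Q, ∀ x ∈ L, a * x * a⁻¹ ∈ L)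
    (htL : t ∉ L) (S : Sylow 2 A) (hQS : Q ≤ (S : Subgroup A)) :
    ∀ a ∈ Q, ∀ x ∈ L, x ∈ (S : Subgroup A) → a * x = x * a := by
  have f2 : Fact (Nat.Prime 2) := ⟨Nat.prime_two⟩
  have huQ : ∀ x ∈ Q, orderOf x = 2 → x = t := fun x hx ho => h.uniq x (h.le hx) ho
  have htQ : ∀ a ∈ Q, a * t = t * a := fun a ha => AutQuat.IsQ.commute_inv h.mem h.ord huQ ha
  -- trivial intersections
  have hKL : ∀ x ∈ K, x ∈ L → x ∈ (S : Subgroup A) → x = 1 := by
    intro x hxK hxL hxS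
    by_contra hx1
    obtain ⟨k, hk⟩ := S.isPGroup' ⟨x, hxS⟩
    have hk' : x ^ 2 ^ k = 1 := by
      have h1 := congrArg Subtype.val hk
      simpa using h1
    obtain ⟨j, hj, hj2⟩ := (Nat.dvd_prime_pow Nat.prime_two).mp (orderOf_dvd_of_pow_eq_one hk')
    have hj0 : j ≠ 0 := by
      rintro rfl
      rw [pow_zero, orderOf_eq_one_iff] at hj2
      exact hx1 hj2
    obtain ⟨i, rfl⟩ := Nat.exists_eq_succ_of_ne_zero hj0
    have h2 : orderOf (x ^ 2 ^ i) = 2 := by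
      rw [orderOf_pow' x (by positivity), hj2, Nat.succ_eq_add_one, pow_succ, Nat.gcd_mul_right_left,
        Nat.mul_div_cancel_left _ (by positivity)]
    apply htL
    rw [← h.uniq _ (K.pow_mem hxK _) h2]
    exact L.pow_mem hxL _
  have hQL1 : ∀ a ∈ Q, a ∈ L → a = 1 := fun a ha haL => hKL a (h.le ha) haL (hQS ha)
  let P : Subgroup A := (S : Subgroup A) ⊓ L
  let C : Subgroup A := P ⊓ centralizer ({t} : Set A)
  have hCt : ∀ c ∈ C, c * t = t * c := fun c hc => mem_centralizer_singleton_iff.1 hc.2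
  have hCP : C ≤ P := inf_le_left
  have hCQ : ∀ c ∈ C, ∀ a ∈ Q, c * a = a * c := by
    intro c hc a ha
    have h1 : a * c * a⁻¹ * c⁻¹ = 1 := by
      apply hKL
      · have h2 := h.norm c (hCt c hc) a⁻¹ (K.inv_mem (h.le ha))
        have h3 := K.mul_mem (h.le ha) h2
        have e : a * (c * a⁻¹ * c⁻¹) = a * c * a⁻¹ * c⁻¹ := by group
        rwa [e] at h3
      · exact L.mul_mem (hQL a ha c (hCP hc).2) (L.inv_mem (hCP hc).2)
      · exact mul_mem (mul_mem (mul_mem (hQS ha) (hCP hc).1) (inv_mem (hQS ha))) (inv_mem (hCP hc).1)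
    rw [mul_inv_eq_one, mul_inv_eq_iff_eq_mul] at h1
    exact h1.symm
  -- the group `C Q`
  let T : Subgroup A :=
    { carrier := {g | ∃ c ∈ C, ∃ a ∈ Q, g = c * a}
      one_mem' := ⟨1, one_mem _, 1, one_mem _, (one_mul 1).symm⟩
      mul_mem' := by
        rintro _ _ ⟨c, hc, a, ha, rfl⟩ ⟨c', hc', a', ha', rfl⟩
        refine ⟨c * c', mul_mem hc hc', a * a', mul_mem ha ha', ?_⟩
        calc c * a * (c' * a') = c * (a * c') * a' := by group
          _ = c * (c' * a) * a' := by rw [hCQ c' hc' a ha]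
          _ = c * c' * (a * a') := by group
      inv_mem' := by
        rintro _ ⟨c, hc, a, ha, rfl⟩
        refine ⟨c⁻¹, inv_mem hc, a⁻¹, inv_mem ha, ?_⟩
        rw [mul_inv_rev]
        exact (hCQ c⁻¹ (inv_mem hc) a⁻¹ (inv_mem ha)).symm }
  by_cases hPT : P ≤ T
  · intro a ha x hx hxS
    obtain ⟨c, hc, b, hb, e⟩ := hPT (⟨hxS, hx⟩ : x ∈ P)
    have h1 : b = c⁻¹ * x := by rw [e]; group
    have h2 : b = 1 := hQL1 b hb (by
      rw [h1]
      exact L.mul_mem (L.inv_mem (hCP hc).2) hx)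
    rw [h2, mul_one] at e
    rw [e]
    exact (hCQ c hc a ha).symm
  exfalso
  let S' : Subgroup A := (S : Subgroup A) ⊓ normalizer (L : Set A)
  have hS' : IsPGroup 2 S' := S.isPGroup'.to_le inf_le_left
  have hLn : ∀ x ∈ L, x ∈ normalizer (L : Set A) := fun x hx => Subgroup.le_normalizer hx
  have hQn : ∀ a ∈ Q, a ∈ normalizer (L : Set A) := by
    intro a ha
    rw [mem_normalizer_iff]
    intro x
    refine ⟨fun hx => hQL a ha x hx, fun hx => ?_⟩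
    have h1 := hQL a⁻¹ (inv_mem ha) _ hx
    have e : a⁻¹ * (a * x * a⁻¹) * a⁻¹⁻¹ = x := by group
    rwa [e] at h1
  have hPS' : P ≤ S' := fun x hx => ⟨hx.1, hLn x hx.2⟩
  have hTS' : T ≤ S' := by
    rintro _ ⟨c, hc, a, ha, rfl⟩
    exact mul_mem (hPS' (hCP hc)) ⟨hQS ha, hQn a ha⟩
  have hn : ∀ s ∈ S', ∀ n ∈ P, s * n * s⁻¹ ∈ P := by
    rintro s ⟨hs, hsL⟩ n ⟨hn, hnL⟩
    exact ⟨Subgroup.mul_mem _ (Subgroup.mul_mem _ hs hn) (Subgroup.inv_mem _ hs), (mem_normalizer_iff.1 hsL n).1 hnL⟩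
  obtain ⟨v, hv, hvT, hvn⟩ := StdRank2.SwapSign.exists_norm hS' hPS' hTS' hn hPT
  have hQT : ∀ a ∈ Q, a ∈ T := fun a ha => ⟨1, one_mem _, a, ha, (one_mul a).symm⟩
  -- the elements of `Q` modulo `C`
  have hvQ : ∀ b ∈ Q, ∃ c ∈ C, v⁻¹ * b * v = c * b := by
    intro b hb
    obtain ⟨c, hc, b', hb', e⟩ := hvn b (hQT b hb)
    refine ⟨c, hc, ?_⟩
    have h1 : b' * b⁻¹ ∈ L := by
      have h2 : v⁻¹ * (b * v * b⁻¹) ∈ L := L.mul_mem (L.inv_mem hv.2) (hQL b hb v hv.2)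
      have h3 : c⁻¹ * (v⁻¹ * (b * v * b⁻¹)) = b' * b⁻¹ := by
        have h4 : c⁻¹ * (v⁻¹ * (b * v * b⁻¹)) = c⁻¹ * (v⁻¹ * b * v) * b⁻¹ := by group
        rw [h4, e]
        group
      rw [← h3]
      exact L.mul_mem (L.inv_mem (hCP hc).2) h2
    have h2 := hQL1 _ (mul_mem hb' (inv_mem hb)) h1
    rw [mul_inv_eq_one] at h2
    rw [e, h2]
  -- `t` is a commutator
  obtain ⟨b, hb, hb4⟩ := h.isQ.exists_four
  obtain ⟨a, ha, hinv⟩ := h.isQ.exists_inverts b hb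
  have htt : t⁻¹ = t := by
    have h5 : t * t = 1 := by
      have h6 := pow_orderOf_eq_one t
      rw [h.ord, sq] at h6
      exact h6
    exact inv_eq_of_mul_eq_one_left h5
  have htc : a * b * a⁻¹ * b⁻¹ = t := by
    rw [hinv, ← mul_inv_rev, ← sq, AutQuat.IsQ.sq_eq huQ hb hb4, htt]
  obtain ⟨ct, hct, hct'⟩ := hvQ t h.mem
  obtain ⟨cb, hcb, hcb'⟩ := hvQ b hb
  have hat : (v * a * v⁻¹) * t = t * (v * a * v⁻¹) := by
    have h1 : a * (v⁻¹ * t * v) = (v⁻¹ * t * v) * a := by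
      rw [hct']
      calc a * (ct * t) = (a * ct) * t := by group
        _ = ct * (a * t) := by rw [← hCQ ct hct a ha]; group
        _ = ct * t * a := by rw [htQ a ha]; group
    calc (v * a * v⁻¹) * t = v * (a * (v⁻¹ * t * v)) * v⁻¹ := by group
      _ = v * ((v⁻¹ * t * v) * a) * v⁻¹ := by rw [h1]
      _ = t * (v * a * v⁻¹) := by group
  have hvb : v * (cb * b) * v⁻¹ = b := by
    rw [← hcb']
    group
  have hcomm : a * (cb * b) * a⁻¹ * (cb * b)⁻¹ = t := by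
    calc a * (cb * b) * a⁻¹ * (cb * b)⁻¹ = (a * cb) * b * a⁻¹ * b⁻¹ * cb⁻¹ := by group
      _ = cb * (a * b * a⁻¹ * b⁻¹) * cb⁻¹ := by rw [← hCQ cb hcb a ha]; group
      _ = t := by rw [htc, hCt cb hcb]; group
  have hvt : v * t * v⁻¹ ∈ K := by
    have h1 : v * t * v⁻¹ = (v * a * v⁻¹) * b * (v * a * v⁻¹)⁻¹ * b⁻¹ := by
      rw [← hcomm]
      calc v * (a * (cb * b) * a⁻¹ * (cb * b)⁻¹) * v⁻¹
          = (v * a * v⁻¹) * (v * (cb * b) * v⁻¹) * (v * a * v⁻¹)⁻¹ * (v * (cb * b) * v⁻¹)⁻¹ := by group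
        _ = _ := by rw [hvb]
    rw [h1]
    exact K.mul_mem (h.norm _ hat b (h.le hb)) (K.inv_mem (h.le hb))
  have hvt' : v * t * v⁻¹ = t := h.uniq _ hvt (by
    rw [← h.ord]
    exact MulEquiv.orderOf_eq (MulAut.conj v) t)
  rw [mul_inv_eq_iff_eq_mul] at hvt'
  apply hvT
  exact ⟨v, ⟨hv, mem_centralizer_singleton_iff.2 hvt'⟩, 1, one_mem _, (mul_one v).symm⟩

end Cfsg.Agent.H273.Hall
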